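import Mathlib
import Groth.Prelude.Def_Algz
import Groth.Agent.DimFormulaLib.Irreducible
import Groth.Agent.DimFormulaLib.Between

/-!
# Codimensions of specializations along a morphism of finite type over a universally catenary base
-/

open CategoryTheory AlgebraicGeometry Topology Limits

namespace Groth.Agent.DeltaFT

universe u

open Groth.Agent.DimFormulaLib

theorem codimPt_map {X Y : Type u} [TopologicalSpace X] [TopologicalSpace Y] {g : X → Y} (hg : IsOpenEmbedding g)
    (w v : X) (h : w ⤳ v) (h' : g w ⤳ g v) : Algz.codimPt (g w) (g v) h' = Algz.codimPt w v h := by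
  let G : Set.Ici (Specialization.toEquiv v) → Set.Ici (Specialization.toEquiv (g v)) := fun a =>
    ⟨Specialization.toEquiv (g (Specialization.ofEquiv a.1)), hg.isInducing.specializes_iff.2 a.2⟩
  have hle : ∀ a b, G a ≤ G b ↔ a ≤ b := fun a b => hg.isInducing.specializes_iff
  have hs : Function.Surjective G := by
    rintro ⟨b, hb⟩
    obtain ⟨z, hz⟩ : Specialization.ofEquiv b ∈ Set.range g :=
      (show Specialization.ofEquiv b ⤳ g v from hb).mem_open hg.isOpen_range ⟨v, rfl⟩
    refine ⟨⟨Specialization.toEquiv z, hg.isInducing.specializes_iff.1 ?_⟩, Subtype.ext ?_⟩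
    · show g z ⤳ g v
      rw [hz]
      exact hb
    · show Specialization.toEquiv (g z) = b
      rw [hz]
      rfl
  have hi : Function.Injective G := fun a b e => by
    have h1 : g (Specialization.ofEquiv a.1) = g (Specialization.ofEquiv b.1) :=
      congrArg (fun z : Set.Ici (Specialization.toEquiv (g v)) => Specialization.ofEquiv z.1) e
    exact Subtype.ext (Specialization.ofEquiv.injective (hg.injective h1))
  let e : Set.Ici (Specialization.toEquiv v) ≃o Set.Ici (Specialization.toEquiv (g v)) :=
    ⟨Equiv.ofBijective G ⟨hi, hs⟩, fun {a b} => hle a b⟩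
  exact Order.height_orderIso e ⟨Specialization.toEquiv w, h⟩

theorem codimPt_eq_relHeight {C : Type u} [CommRing C] [IsNoetherianRing C] (P Q : PrimeSpectrum C) (h : P ⤳ Q) :
    Algz.codimPt P Q h = relHeight P Q := by
  have hPQ : P ≤ Q := (PrimeSpectrum.le_iff_specializes P Q).2 h
  have hiff : ∀ a b : Specialization (PrimeSpectrum C),
      a ≤ b ↔ Specialization.ofEquiv b ≤ Specialization.ofEquiv a := fun a b =>
    ⟨fun hab => (PrimeSpectrum.le_iff_specializes _ _).2 hab, fun hab => (PrimeSpectrum.le_iff_specializes _ _).1 hab⟩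
  refine le_antisymm (Order.height_le fun t ht => ?_) ?_
  · let u : LTSeries (PrimeSpectrum C) :=
      ⟨t.length, fun i => Specialization.ofEquiv (t i.rev).1, fun i => by
        have h1 : t i.succ.rev < t i.castSucc.rev := t.strictMono (Fin.rev_lt_rev.2 (Fin.castSucc_lt_succ))
        refine lt_of_le_of_ne ((hiff _ _).1 h1.le) fun e => h1.ne' ?_
        exact Subtype.ext (Specialization.ofEquiv.injective e)⟩
    have := length_le_relHeight (P := P) (Q := Q) u
      (by
        show P ≤ Specialization.ofEquiv (t (Fin.rev 0)).1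
        rw [Fin.rev_zero]
        exact le_of_eq (congrArg (fun z => Specialization.ofEquiv (Subtype.val z)) ht.symm))
      (by
        show Specialization.ofEquiv (t (Fin.rev (Fin.last _))).1 ≤ Q
        rw [Fin.rev_last]
        exact (PrimeSpectrum.le_iff_specializes _ _).2 (t 0).2)
    exact this
  · obtain ⟨n, s, hn, sh, sl, sn, -⟩ := exists_saturated_between hPQ
    rw [hn, ← sn]
    let t : LTSeries (Set.Ici (Specialization.toEquiv Q)) :=
      ⟨s.length, fun i => ⟨Specialization.toEquiv (s i.rev), (hiff _ _).2 (by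
          show s i.rev ≤ Q
          rw [← sl]; exact s.monotone (Fin.le_last _))⟩,
        fun i => by
          have h1 : s i.succ.rev < s i.castSucc.rev := s.strictMono (Fin.rev_lt_rev.2 (Fin.castSucc_lt_succ))
          refine lt_of_le_of_ne ((hiff _ _).2 h1.le) fun e => h1.ne' ?_
          exact e⟩
    refine Order.length_le_height (p := t) (le_of_eq (Subtype.ext ?_))
    show Specialization.toEquiv (s (Fin.rev (Fin.last _))) = Specialization.toEquiv P
    rw [Fin.rev_last, ← sh]; rfl

variable {X Y : Scheme.{u}} (f : X ⟶ Y) [LocallyOfFiniteType f] [IsLocallyNoetherian Y]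

theorem exists_resTrdegAt (x : X) :
    ∃ t : ℕ, resTrdegAt f x = t ∧ ((t : ℕ) : WithBot ℕ∞) ≤ topologicalKrullDim ↥(f.fiber (f x)) := by
  obtain ⟨c⟩ := exists_chart f x
  obtain ⟨a, b, d, t', -, -, -, ht', hfib, -⟩ := c.dims
  refine ⟨t', c.resTrdegAt_self.trans ht', le_trans ?_ (le_of_le_of_eq
    (show FlatMor.fibreDimAt f x ≤ _ from iInf_le _ ⟨⊤, trivial⟩)
    (IsHomeomorph.topologicalKrullDim_eq _ (Homeomorph.Set.univ ↥(f.fiber (f x))).isHomeomorph))⟩
  rw [hfib]
  exact_mod_cast Nat.le_add_left t' d

/-- The dimension formula for a specialization. -/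
theorem codimPt_formula (hY : ∀ y : Y, CAlg.IsUniversallyCatenary (Y.presheaf.stalk y)) (w v : X) (h : w ⤳ v)
    (tw tv : ℕ) (hw : resTrdegAt f w = tw) (hv : resTrdegAt f v = tv) :
    ∃ a b : ℕ, Algz.codimPt w v h = a ∧ Algz.codimPt (f w) (f v) (h.map f.continuous) = b ∧
      a + tv = b + tw := by
  obtain ⟨c⟩ := exists_chart f v
  haveI := c.isNoetherianRing
  haveI : IsNoetherianRing c.B := Algebra.FiniteType.isNoetherianRing c.A c.B
  obtain ⟨P, hPq, hP⟩ := c.exists_le h
  obtain ⟨a, b, ha, hb, -, heq⟩ := formula_component hPq tw tv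
    (by rw [← c.resTrdegAt_eq, hP]; exact hw) (c.resTrdegAt_self.symm.trans hv)
  refine ⟨a, b, ?_, ?_, heq (c.catAbove (hY _))⟩
  · have hs : (P : Spec (.of c.B)) ⤳ c.q := (PrimeSpectrum.le_iff_specializes _ _).1 hPq
    have := codimPt_map c.j.isOpenEmbedding P c.q hs (hs.map c.j.continuous)
    refine Eq.trans ?_ (this.trans ((codimPt_eq_relHeight P c.q hs).trans ha))
    congr 1
    · exact hP.symm
    · exact c.hq.symm
  · let P' := PrimeSpectrum.comap (algebraMap c.A c.B) P
    let q' := PrimeSpectrum.comap (algebraMap c.A c.B) c.q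
    have hs : (P' : Spec (.of c.A)) ⤳ q' := (PrimeSpectrum.le_iff_specializes _ _).1 (Ideal.comap_mono hPq)
    have := codimPt_map c.i.isOpenEmbedding P' q' hs (hs.map c.i.continuous)
    refine Eq.trans ?_ (this.trans ((codimPt_eq_relHeight P' q' hs).trans hb))
    congr 1
    · rw [← hP, c.apply_j]
    · exact c.hp.symm

end Groth.Agent.DeltaFT
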